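import Mathlib
import Cfsg.Agent.H460.OT.ShortC
import Cfsg.Agent.H274.OT.LTY
import Cfsg.Agent.H186.OT.Iface

/-!
# S2539, part 5, piece (N3) (helper298): `Y0 = C_T(D_F)` is not contained in `Z(F)`

* `sep_A2` : parities for a short `A₂` in `F₄`;
* `hY_of` : if `⟨s, r^∨⟩` is even for all `s ∈ S_F` and odd for some `b ∈ Ψ` then `h_r(-1) ∈ Y0 - Z(F)`;
* `hY_pm`, `hY_A2`.
-/

set_option autoImplicit false
set_option linter.unusedSectionVars false

namespace Cfsg.Agent.H298.OT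

open Cfsg Cfsg.Lie Cfsg.Lie.ChevalleyDatum
open Cfsg.Agent.ChevalleyStructure Cfsg.Agent.ChevalleyStructure.Elts
open Cfsg.Agent.H412.OT Cfsg.Agent.H186.OT Cfsg.Agent.H274.OT
open Cfsg.Agent.H460.OT.Short (pT cT lT pF cF lF oddN oddN_iff bq chkP_F4 chkC_F4 chkL_F4 p_spec c_spec l_spec nF inF
  sep_single chainRoot_lt pT_of)
open Cfsg.Agent.ChevalleyStructure.RootCombBase (allLt allLt_spec anyLt anyLt_spec ieq ieq_spec)

universe u

/-- for short `r`, `s` at 60 degrees and `b ≠ ±r, ±s, ±(s - r)`: a root `a` with `⟨r, a^∨⟩`, `⟨s, a^∨⟩` even,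
`⟨b, a^∨⟩` odd -/
def y1 : Bool := allLt (fun r => or (lT lF r) (allLt (fun s => or (lT lF s) (or (not (Nat.beq (pT pF 48 r s) 4))
  (allLt (fun b => or (Nat.beq b r) (or (Nat.beq b (chevF4.neg r)) (or (Nat.beq b s) (or (Nat.beq b (chevF4.neg s))
    (or (Nat.beq b (cT cF 48 (chevF4.neg r) s)) (or (Nat.beq b (chevF4.neg (cT cF 48 (chevF4.neg r) s)))
    (anyLt (fun a => and (oddN (pT pF 48 a r)) (and (oddN (pT pF 48 a s)) (not (oddN (pT pF 48 a b))))) 48))))))) 48)))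
    48)) 48

theorem y1_ok : y1 = true := by decide +kernel

theorem sep_A2 {r s u b : ℕ} (hr : r < chevF4.nroots) (hs : s < chevF4.nroots) (hb : b < chevF4.nroots)
    (h1 : ¬ IsLong chevF4 r) (h2 : ¬ IsLong chevF4 s) (e1 : pr chevF4 r s = 1)
    (hu : chevF4.chainRoot (chevF4.neg r) s 1 = some u)
    (hb' : b ∉ ({r, chevF4.neg r, s, chevF4.neg s, u, chevF4.neg u} : Set ℕ)) :
    ∃ a < chevF4.nroots, Even (pr chevF4 a r) ∧ Even (pr chevF4 a s) ∧ Odd (pr chevF4 a b) := by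
  have hnr : chevF4.neg r < 48 := nF ▸ (chainRoot_lt inF hu).1
  rw [nF] at hr hs hb ⊢
  have hcu := ((c_spec chkC_F4 (by norm_num) nF inF hnr hs).1 hu).1
  simp only [Set.mem_insert_iff, Set.mem_singleton_iff, not_or] at hb'
  obtain ⟨n1, n2, n3, n4, n5, n6⟩ := hb'
  have hh := allLt_spec y1_ok r hr
  simp only [Bool.or_eq_true, l_spec chkL_F4 hr] at hh
  have hh := allLt_spec (hh.resolve_left h1) s hs
  simp only [Bool.or_eq_true, l_spec chkL_F4 hs, Bool.not_eq_true', ← Bool.not_eq_true, bq] at hh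
  have hh := allLt_spec ((hh.resolve_left h2).resolve_left (not_not.2 ((pT_of hr hs).2 e1))) b hb
  simp only [Bool.or_eq_true, bq, hcu] at hh
  have hh := (((((hh.resolve_left n1).resolve_left n2).resolve_left n3).resolve_left n4).resolve_left n5).resolve_left n6
  obtain ⟨a, ha, h6⟩ := anyLt_spec hh
  simp only [Bool.and_eq_true, Bool.not_eq_true', ← Bool.not_eq_true, oddN_iff] at h6
  have q1 := p_spec chkP_F4 ha hr
  have q2 := p_spec chkP_F4 ha hs
  have q3 := p_spec chkP_F4 ha hb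
  refine ⟨a, ha, ?_, ?_, ?_⟩
  · rw [Int.even_iff]; omega
  · rw [Int.even_iff]; omega
  · rw [Int.odd_iff]; omega

section Conc

variable {D : ChevalleyDatum} {K : Type u} [Field K] {F : Subgroup (GL D.Idx K)}

/-- `h_r(-1) ∈ Y0 - Z(F)`, an element of order `2`. -/
theorem hY_of (hD : InList D) (h2 : (-1 : K) ≠ 1) {r b : ℕ} (hr : r < D.nroots) (hb : b ∈ Psi D K F)
    (he : ∀ s ∈ SF D K F, Even (pr D r s)) (ho : Odd (pr D r b)) :
    ∃ y ∈ Y0 D K F, y ^ 2 = 1 ∧ y ^ 2 ∈ Zf F ∧ y ∉ Zf F := by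
  have hm : (-1 : K) ≠ 0 := neg_ne_zero.2 one_ne_zero
  have hsq : hG hD r (-1 : K) ^ 2 = 1 := by
    apply Units.ext
    rw [Units.val_pow_eq_pow_val, coe_hG_diag hD hr hm, Units.val_one, Matrix.diagonal_pow, ← Matrix.diagonal_one]
    congr 1
    funext x
    rcases x with i | s
    · simp
    · rw [Pi.pow_apply, Sum.elim_inr, ← zpow_natCast, ← zpow_mul, mul_comm, zpow_mul]
      simp
  refine ⟨hG hD r (-1 : K), ?_, hsq, ?_, ?_⟩
  · refine Subgroup.mem_inf.2 ⟨hG_mem hD hr hm, ?_⟩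
    have h3 : DF D K F ≤ Subgroup.centralizer {hG hD r (-1 : K)} := by
      refine iSup₂_le fun s hs => (Subgroup.closure_le _).2 ?_
      rintro x ⟨c, hx⟩
      have e : x = xG hD s c := Units.ext (by rw [hx, coe_xG])
      rw [SetLike.mem_coe, Subgroup.mem_centralizer_iff, e]
      rintro y rfl
      have h4 := hG_conj_xG hD hr hs.1 hm c
      rw [(he s hs).neg_one_zpow, one_mul] at h4
      rw [mul_inv_eq_iff_eq_mul] at h4
      exact h4
    rw [Subgroup.mem_centralizer_iff]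
    intro d hd
    have h4 := Subgroup.mem_centralizer_iff.1 (h3 hd) _ rfl
    exact h4.symm
  · rw [hsq]
    exact mem_Zf.2 ⟨one_mem _, fun x _ => by rw [mul_one, one_mul]⟩
  · intro h3
    have h4 := hb.2 _ h3
    rw [chi_hG hD hr hb.1 hm, ho.neg_one_zpow] at h4
    exact h2 h4

theorem neg_one_ne_one' [Fintype K] {p : ℕ} [CharP K p] (h : Hyp K p D) (hDD : D = chevF4 ∨ D = chevG2) :
    (-1 : K) ≠ 1 := by
  have h1 : p ≠ 2 := h.ne2 (by rcases hDD with rfl | rfl <;> simp)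
  have h2 : ringChar K ≠ 2 := by
    rw [ringChar.eq K p]; exact h1
  exact Ring.neg_one_ne_one_of_char_ne_two h2

/-- **(N3) (i)** -/
theorem hY_pm [Fintype K] {p : ℕ} [CharP K p] (h : Hyp K p D) (hDD : D = chevF4 ∨ D = chevG2) {s a : ℕ}
    (hs : s < D.nroots) (hsh : ¬ IsLong D s) (ha : a ∈ Psi D K F) (h1 : a ≠ s) (h2 : a ≠ D.neg s)
    (h3 : pr D s a ≠ 0) (hS : SF D K F = {s, D.neg s}) :
    ∃ y ∈ Y0 D K F, y ^ 2 = 1 ∧ y ^ 2 ∈ Zf F ∧ y ∉ Zf F := by
  obtain ⟨r, hr, h4, h5⟩ := sep_single hDD hs ha.1 hsh h1 h2 h3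
  refine hY_of h.inList (neg_one_ne_one' h hDD) hr ha ?_ h5
  rw [hS]
  rintro x (rfl | rfl)
  · exact h4
  · rw [H460.OT.Short.pr_neg_right h.inList hs]
    exact h4.neg

end Conc

/-- **(N3) (ii)** -/
theorem hY_A2 {K : Type u} [Field K] [Fintype K] {p : ℕ} [CharP K p] (h : Hyp K p chevF4)
    {F : Subgroup (GL chevF4.Idx K)} {a c d b : ℕ} (ha : a < chevF4.nroots) (hc : c < chevF4.nroots)
    (h1 : ¬ IsLong chevF4 a) (h2 : ¬ IsLong chevF4 c) (e1 : pr chevF4 a c = 1)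
    (hd : chevF4.chainRoot (chevF4.neg a) c 1 = some d)
    (hS : SF chevF4 K F = {a, chevF4.neg a, c, chevF4.neg c, d, chevF4.neg d})
    (hb : b ∈ Psi chevF4 K F) (hb' : b ∉ SF chevF4 K F) :
    ∃ y ∈ Y0 chevF4 K F, y ^ 2 = 1 ∧ y ^ 2 ∈ Zf F ∧ y ∉ Zf F := by
  rw [hS] at hb'
  obtain ⟨r, hr, h4, h5, h6⟩ := sep_A2 ha hc hb.1 h1 h2 e1 hd hb'
  have h7 : Even (pr chevF4 r d) := by
    rw [H460.OT.Short.pr_add inF hd, H460.OT.Short.pr_neg_right inF ha]
    exact h4.neg.add h5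
  have hdl := (chainRoot_lt inF hd).2.2
  refine hY_of h.inList (neg_one_ne_one' h (Or.inl rfl)) hr hb ?_ h6
  rw [hS]
  rintro x (rfl | rfl | rfl | rfl | rfl | rfl)
  · exact h4
  · rw [H460.OT.Short.pr_neg_right inF ha]; exact h4.neg
  · exact h5
  · rw [H460.OT.Short.pr_neg_right inF hc]; exact h5.neg
  · exact h7
  · rw [H460.OT.Short.pr_neg_right inF hdl]; exact h7.neg

end Cfsg.Agent.H298.OT
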