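import Cfsg.Agent.H298.OT.SylOf
import Cfsg.Agent.H68.OT.Syl
import Cfsg.Agent.H48.OT.SixA2

/-!
# S2539, part 4.4 (END_l), the Sylow case (helper298)
-/

set_option autoImplicit false
set_option linter.unusedSectionVars false

namespace Cfsg.Agent.H298.SY

open Subgroup Cfsg.Agent.H712.OT Cfsg.Agent.H214.OT Cfsg.Agent.H792.OT

universe u v w

variable {K : Type u} [Field K] [Fintype K] {Y : Type v} [Group Y] {T M : Subgroup Y}
  {Φ : Type w} {Ψ : Set Φ} {P : Φ → Φ → ℤ}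

/-- **The Sylow case** (R7 as a hypothesis). -/
theorem syl_false' [Finite Y] (X : Ctx K Y T M Φ Ψ P) {L : Subgroup Y} (E : Env X L) {k : ℕ} (hk : 4 ≤ k)
    (hK : Fintype.card K = 2 ^ k) {l : ℕ} (hl : l.Prime) (hl3 : 3 ≤ l) (hd : l ∣ Fintype.card K - 1)
    (hq : ∀ m ∈ M, m ^ l ∈ T → m ∈ T)
    (r7 : A3 X → ∀ m : M, ∃ j : ℕ, 1 ≤ j ∧ j < 3 ^ 8 ∧ (m : Y) ^ j ∈ T)
    (hcase : (k = 4 ∧ l = 5 ∧ Nat.card Ψ = 6) ∨ (k = 6 ∧ l = 7 ∧ Nat.card Ψ = 6) ∨
      (11 ≤ l ∧ l ^ 2 ≤ tor X l) ∨ (l = 3 ∧ A3 X) ∨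
      (k = 4 ∧ l = 5 ∧ A3 X ∧ ∀ r : ℕ, r.Prime → 5 ≤ r → ∀ m ∈ M, m ^ r ∈ T → m ∈ T)) : False := by
  have := Fact.mk hl
  have hA : l = 3 → A3 X := by
    intro h3
    rcases hcase with h | h | h | h | h
    · omega
    · omega
    · omega
    · exact h.2
    · omega
  have hsq : l ^ 2 ≤ tor X l := by
    by_cases h3 : l = 3
    · have h1 := H544.OT.cube_le X (hA h3) hl hl3 hd
      have h2 : l ^ 2 ≤ l ^ 3 := Nat.pow_le_pow_right hl.pos (by norm_num)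
      omega
    · exact sq_le X hl h3 hd
  obtain ⟨S, Q, O⟩ := exists_out X E hd hq hsq
  have hmemQ : ∀ x : L, x ∈ (Q : Subgroup L) ↔ (x : Y) ∈ lPart T X.comm l := by
    intro x
    rw [O.sub, mem_subgroupOf, O.eq]
  obtain ⟨F, iF, iF', n, hn, hF, ⟨e⟩⟩ := H68.OT.psl_two X E.simple E.nonab (by omega) hd Q
    (fun x hx => ((hmemQ x).1 hx).1)
    (fun t ht htl => O.le (by rw [O.eq]; exact ⟨ht, 1, by rw [pow_one]; exact htl⟩))
    (fun h3 => by
      have h1 := H544.OT.cube_le X (hA h3) hl hl3 hd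
      rw [h3] at h1
      exact h1)
    (fun h5 => by
      rcases hcase with h | h | h | h | h
      · left
        refine ⟨by rw [hK, h.1]; norm_num, h.2.2, (H48.OT.six_A2 X h.2.2).2⟩
      · omega
      · omega
      · omega
      · right
        have h1 := H544.OT.cube_le X h.2.2.1 hl hl3 hd
        rw [h5] at h1
        exact h1)
  refine psl_false X E hk hK hl3 hd O hn (pslFacts (by omega) (by omega) hF e Q) ?_
  rcases six_or_A3 X with h | h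
  · by_cases h3 : l = 3
    · exact Or.inr ⟨hA h3, r7 (hA h3)⟩
    · exact Or.inl ⟨h3, (H48.OT.six_A2 X h).1⟩
  · exact Or.inr ⟨h, r7 h⟩

end Cfsg.Agent.H298.SY
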