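import Cfsg.Agent.H214.OT.Env
import Cfsg.Agent.H792.OT.Flores
import Cfsg.Agent.H544.OT.Root
import Cfsg.Agent.H298.OT.PSLRow

/-!
# S2539, part 4.4 (END_l), the Sylow case (helper298)

`T_l` is a Sylow subgroup of `Y`: it lies in `L`, it is a TI Sylow subgroup of `L`, it is not cyclic; the possibility
`L ≅ PSL(2, l ^ n)`.
-/

set_option autoImplicit false
set_option linter.unusedSectionVars false

namespace Cfsg.Agent.H298.SY

open Subgroup Cfsg.Agent.H712.OT Cfsg.Agent.H214.OT Cfsg.Agent.H792.OT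
open scoped Pointwise

universe u v w

variable {K : Type u} [Field K] [Fintype K] {Y : Type v} [Group Y] {T M : Subgroup Y}
  {Φ : Type w} {Ψ : Set Φ} {P : Φ → Φ → ℤ}

/-- `Ψ` is of type `A₂` or contains an `A₃`. -/
theorem six_or_A3 (X : Ctx K Y T M Φ Ψ P) : Nat.card Ψ = 6 ∨ A3 X := by
  obtain ⟨a, ha, b, hb, hab⟩ := X.rank
  obtain ⟨c, hc, hPc, -⟩ := X.add a ha b hb hab
  have sa := X.self a
  have sb := X.self b
  have sc := X.self c
  have hba : P b a = -1 := by rw [X.symm]; exact hab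
  have hca : P c a = 1 := by rw [hPc, sa, hba]; rfl
  have hcb : P c b = 1 := by rw [hPc, sb, hab]; rfl
  have hac : P a c = 1 := by rw [X.symm]; exact hca
  have hbc : P b c = 1 := by rw [X.symm]; exact hcb
  have hN : ∀ x y, P x (X.neg y) = - P x y := fun x y => by rw [X.symm, X.P_neg, X.symm]
  let f : Fin 6 → Φ := ![a, b, c, X.neg a, X.neg b, X.neg c]
  have hfΨ : ∀ i, f i ∈ Ψ := by
    intro i
    fin_cases i
    exacts [ha, hb, hc, X.neg_mem a ha, X.neg_mem b hb, X.neg_mem c hc]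
  by_cases hS : Set.range f = Ψ
  · left
    have hg : Function.Injective f := by
      let g : Fin 6 → ℤ × ℤ := ![(2, -1), (-1, 2), (1, 1), (-2, 1), (1, -2), (-1, -1)]
      have h1 : ∀ i, (P a (f i), P b (f i)) = g i := by
        intro i
        fin_cases i
        · exact Prod.ext sa hba
        · exact Prod.ext hab sb
        · exact Prod.ext hac hbc
        · exact Prod.ext ((hN a a).trans (by rw [sa]; rfl)) ((hN b a).trans (by rw [hba]; rfl))
        · exact Prod.ext ((hN a b).trans (by rw [hab]; rfl)) ((hN b b).trans (by rw [sb]; rfl))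
        · exact Prod.ext ((hN a c).trans (by rw [hac]; rfl)) ((hN b c).trans (by rw [hbc]; rfl))
      have h2 : Function.Injective g := by decide
      intro i j hij
      apply h2
      rw [← h1, ← h1, hij]
    rw [← hS, ← Nat.card_congr (Equiv.ofInjective f hg), Nat.card_eq_fintype_card, Fintype.card_fin]
  · right
    obtain ⟨s, ⟨i, rfl⟩, d, hd, hdS, hsd⟩ := X.irred (Set.range f) (by rintro _ ⟨i, rfl⟩; exact hfΨ i)
      ⟨_, ⟨0, rfl⟩⟩ hS
    -- `P (f i) d` is not `2` or `-2`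
    have hne : ∀ x, x ∈ Set.range f → X.neg x ∈ Set.range f → P d x = -1 ∨ P d x = 0 ∨ P d x = 1 := by
      intro x hx hnx
      have h1 := abs_le.1 (X.P_abs d x)
      have h2 : P d x ≠ 2 := fun h => hdS (by rwa [X.two d x h])
      have h3 : P d x ≠ -2 := by
        intro h
        apply hdS
        have : P d (X.neg x) = 2 := by rw [hN, h]; rfl
        rwa [X.two d _ this]
      omega
    have hda := hne a ⟨0, rfl⟩ ⟨3, rfl⟩
    have hdb := hne b ⟨1, rfl⟩ ⟨4, rfl⟩
    have hdc := hne c ⟨2, rfl⟩ ⟨5, rfl⟩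
    have hdc' : P d c = P d a + P d b := by rw [X.symm, hPc, X.symm a, X.symm b]
    have hnz : ¬ (P d a = 0 ∧ P d b = 0) := by
      rintro ⟨h1, h2⟩
      apply hsd
      rw [h1, h2] at hdc'
      rw [X.symm]
      fin_cases i
      · exact h1
      · exact h2
      · exact hdc'
      · exact (hN d a).trans (by rw [h1]; rfl)
      · exact (hN d b).trans (by rw [h2]; rfl)
      · exact (hN d c).trans (by rw [hdc']; rfl)
    have key : ∀ x ∈ Ψ, ∀ y ∈ Ψ, P d x = -1 → P x y = -1 → P d y = 0 → A3 X := fun x hx y hy h1 h2 h3 =>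
      ⟨d, hd, x, hx, y, hy, h1, h2, h3⟩
    rcases hda with h1 | h1 | h1 <;> rcases hdb with h2 | h2 | h2
    · rw [h1, h2] at hdc'; omega
    · exact key a ha b hb h1 hab h2
    · exact key a ha (X.neg c) (X.neg_mem c hc) h1 (by rw [hN, hac]) (by rw [hN, hdc', h1, h2]; rfl)
    · exact key b hb a ha h2 hba h1
    · exact absurd ⟨h1, h2⟩ hnz
    · exact key (X.neg b) (X.neg_mem b hb) (X.neg a) (X.neg_mem a ha) (by rw [hN, h2])
        (by rw [hN, X.P_neg, hba]; rfl) (by rw [hN, h1]; rfl)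
    · exact key b hb (X.neg c) (X.neg_mem c hc) h2 (by rw [hN, hbc]) (by rw [hN, hdc', h1, h2]; rfl)
    · exact key (X.neg a) (X.neg_mem a ha) (X.neg b) (X.neg_mem b hb) (by rw [hN, h1])
        (by rw [hN, X.P_neg, hab]; rfl) (by rw [hN, h2]; rfl)
    · rw [h1, h2] at hdc'; omega

/-- the `s`-rank of `T` is at least 2, `s ≠ 3` -/
theorem sq_le [Finite Y] (X : Ctx K Y T M Φ Ψ P) {s : ℕ} (hs : s.Prime) (h3 : s ≠ 3)
    (hd : s ∣ Fintype.card K - 1) : s ^ 2 ≤ tor X s := by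
  obtain ⟨a, ha, b, hb, hab⟩ := X.rank
  have hba : P b a = -1 := by rw [X.symm]; exact hab
  obtain ⟨z, hz⟩ := H544.OT.exists_unit (K := K) s hd
  have hzs : z ^ s = 1 := by rw [← hz]; exact pow_orderOf_eq_one z
  let f : Fin s × Fin s → {t : Y // t ∈ T ∧ t ^ s = 1} := fun p =>
    ⟨X.h a (z ^ (p.1 : ℕ)) * X.h b (z ^ (p.2 : ℕ)), T.mul_mem (X.h_mem _ _) (X.h_mem _ _), by
      have hc : Commute (X.h a (z ^ (p.1 : ℕ))) (X.h b (z ^ (p.2 : ℕ))) :=
        X.comm _ (X.h_mem _ _) _ (X.h_mem _ _)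
      rw [hc.mul_pow, ← map_pow, ← map_pow, ← pow_mul, ← pow_mul, mul_comm (p.1 : ℕ), mul_comm (p.2 : ℕ),
        pow_mul, pow_mul, hzs, one_pow, one_pow, map_one, map_one, one_mul]⟩
  have hf : Function.Injective f := by
    rintro ⟨i, j⟩ ⟨i', j'⟩ h
    have h0 : X.h a (z ^ (i : ℕ)) * X.h b (z ^ (j : ℕ)) = X.h a (z ^ (i' : ℕ)) * X.h b (z ^ (j' : ℕ)) :=
      congrArg Subtype.val h
    have key : ∀ x ∈ Ψ, ∀ i j : ℕ, X.χ x (X.h a (z ^ i) * X.h b (z ^ j)) =
        z ^ ((i : ℤ) * P x a + (j : ℤ) * P x b) := by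
      intro x hx i j
      rw [X.χ_mul x hx _ (X.h_mem _ _) _ (X.h_mem _ _), X.χ_h a ha x hx, X.χ_h b hb x hx, ← zpow_natCast,
        ← zpow_natCast, ← zpow_mul, ← zpow_mul, ← zpow_add]
    have e1 := key a ha i j
    have e2 := key b hb i j
    rw [h0, key a ha] at e1
    rw [h0, key b hb] at e2
    have d1 := H544.OT.dvd_of_zpow_eq hz e1
    have d2 := H544.OT.dvd_of_zpow_eq hz e2
    rw [X.self, hab] at d1
    rw [X.self, hba] at d2
    have hsp : Prime (s : ℤ) := Nat.prime_iff_prime_int.1 hs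
    have h33 : ¬ (s : ℤ) ∣ 3 := by
      intro h
      have : s ∣ 3 := by exact_mod_cast h
      exact h3 ((Nat.prime_dvd_prime_iff_eq hs Nat.prime_three).1 this)
    have d3 : (s : ℤ) ∣ 3 * ((i' : ℤ) - (i : ℤ)) := by
      have := dvd_add (d1.mul_left 2) d2
      have e : (2 : ℤ) * ((i' : ℤ) * 2 + (j' : ℤ) * -1 - ((i : ℤ) * 2 + (j : ℤ) * -1)) +
          ((i' : ℤ) * -1 + (j' : ℤ) * 2 - ((i : ℤ) * -1 + (j : ℤ) * 2)) = 3 * ((i' : ℤ) - (i : ℤ)) := by ring
      rwa [e] at this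
    have d4 := (hsp.dvd_or_dvd d3).resolve_left h33
    have hi : (i : ℤ) = i' := by
      have h1 := i.2
      have h2 := i'.2
      obtain ⟨r, hr⟩ := d4
      have h5 : r = 0 := by
        by_contra hr0
        rcases lt_or_gt_of_ne hr0 with h6 | h6
        · have : (s : ℤ) * r ≤ -s := by nlinarith
          omega
        · have : (s : ℤ) ≤ (s : ℤ) * r := by nlinarith
          omega
      rw [h5, mul_zero] at hr
      omega
    have d5 : (s : ℤ) ∣ ((j : ℤ) - (j' : ℤ)) := by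
      have e : (i' : ℤ) * 2 + (j' : ℤ) * -1 - ((i : ℤ) * 2 + (j : ℤ) * -1) = (j : ℤ) - (j' : ℤ) := by rw [hi]; ring
      rwa [e] at d1
    have hj : (j : ℤ) = j' := by
      have h1 := j.2
      have h2 := j'.2
      obtain ⟨r, hr⟩ := d5
      have h5 : r = 0 := by
        by_contra hr0
        rcases lt_or_gt_of_ne hr0 with h6 | h6
        · have : (s : ℤ) * r ≤ -s := by nlinarith
          omega
        · have : (s : ℤ) ≤ (s : ℤ) * r := by nlinarith
          omega
      rw [h5, mul_zero] at hr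
      omega
    refine Prod.ext (Fin.ext ?_) (Fin.ext ?_)
    · exact_mod_cast hi
    · exact_mod_cast hj
  have h1 := Nat.card_le_card_of_injective f hf
  rw [Nat.card_prod, Nat.card_eq_fintype_card, Fintype.card_fin, ← sq] at h1
  exact h1

/-- `Y = T L` in the form used by helper792 -/
theorem soc (X : Ctx K Y T M Φ Ψ P) {L : Subgroup Y} (E : Env X L) : Soc T M L := by
  have hn := E.normal
  have hs := E.simple
  refine ⟨E.normal, E.simple, ?_, ?_, by rw [sup_comm]; exact E.sup, ?_⟩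
  · intro h
    exact E.nonab fun x y => h.is_comm.comm x y
  · intro y hy
    have : y ∈ centralizer (L : Set Y) := by
      rw [mem_centralizer_iff]
      exact hy
    rwa [E.cent, mem_bot] at this
  · intro hM
    have hTn : T.Normal := by
      rw [← normalizer_eq_top_iff, ← E.hM, hM]
    rcases IsSimpleGroup.eq_bot_or_eq_top_of_normal (T.subgroupOf L) inferInstance with h | h
    · rw [subgroupOf_eq_bot, disjoint_iff] at h
      exact E.inf h
    · rw [subgroupOf_eq_top] at h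
      exact E.nonab fun x y => Subtype.ext (X.comm _ (h x.2) _ (h y.2))

/-- the hypothesis `hq` for `l`-elements -/
theorem mem_of_pow {l : ℕ} (hq : ∀ m ∈ M, m ^ l ∈ T → m ∈ T) {x : Y} (hx : x ∈ M) {n : ℕ} (h : x ^ l ^ n = 1) :
    x ∈ T := by
  have key : ∀ n : ℕ, ∀ x ∈ M, x ^ l ^ n ∈ T → x ∈ T := by
    intro n
    induction n with
    | zero => intro x _ h; rwa [pow_zero, pow_one] at h
    | succ n ih =>
      intro x hx h
      apply hq x hx
      apply ih (x ^ l) (M.pow_mem hx l)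
      rwa [← pow_mul, ← pow_succ']
  exact key n x hx (by rw [h]; exact T.one_mem)

/-- `T_l` is a Sylow subgroup of `Y` -/
theorem exists_dat' [Finite Y] (X : Ctx K Y T M Φ Ψ P) {l : ℕ} [hl : Fact l.Prime] (hd : l ∣ Fintype.card K - 1)
    (hq : ∀ m ∈ M, m ^ l ∈ T → m ∈ T) :
    ∃ S : Sylow l Y, Dat T M X.comm l S ∧ (S : Subgroup Y) = lPart T X.comm l := by
  have hcard : l ∣ Nat.card T := by
    obtain ⟨a, ha, b, hb, hab⟩ := X.rank
    obtain ⟨z, hz⟩ := H544.OT.exists_unit (K := K) l hd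
    have h1 : X.h a z ^ l = 1 := by rw [← map_pow, ← hz, pow_orderOf_eq_one, map_one]
    have h2 : X.h a z ≠ 1 := by
      intro h
      have h3 := X.χ_h a ha b hb z
      rw [h, H544.OT.chi_one X hb, X.symm, hab, zpow_neg_one, eq_comm, inv_eq_one] at h3
      rw [h3, orderOf_one] at hz
      exact hl.out.one_lt.ne hz
    have h3 : orderOf (X.h a z) = l := orderOf_eq_prime h1 h2
    have h4 : orderOf (⟨X.h a z, X.h_mem a z⟩ : T) = l := by rw [← h3, ← orderOf_coe]
    rw [← h4]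
    exact orderOf_dvd_natCard _
  have hne : lPart T X.comm l ≠ ⊥ := lPart_ne_bot hcard
  have hsc : ∀ t ∈ lPart T X.comm l, t ≠ 1 → ∀ y : Y, y * t * y⁻¹ ∈ M → y ∈ M := by
    rintro t ⟨ht, n, hn⟩ h1 y hy
    by_contra hyM
    refine h1 (X.ti y hyM t ht (mem_of_pow hq hy (n := n) ?_))
    rw [conj_pow, hn, mul_one, mul_inv_cancel]
  obtain ⟨t, ht, ht1⟩ := (lPart T X.comm l).bot_or_exists_ne_one.resolve_left hne
  obtain ⟨S, hS⟩ := exists_sylow_eq (M := M) (isPGroup_lPart (T := T) (hT := X.comm) (l := l))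
    (fun R hR hRp hle => by
      refine le_antisymm (fun x hx => ?_) hle
      obtain ⟨n, hn⟩ := hRp ⟨x, hx⟩
      have hn' : x ^ l ^ n = 1 := congrArg Subtype.val hn
      exact ⟨mem_of_pow hq (hR hx) hn', n, hn'⟩)
    (fun y hy => hsc t ht ht1 y (X.TM ((mem_normalizer_iff.1 hy t).1 ht).1))
  refine ⟨S, ⟨X.TM, X.conj_mem, ?_, hne, by rw [hS], hsc⟩, hS⟩
  rw [hS]
  exact lPart_le.trans X.TM

theorem not_isCyclic [Finite Y] (X : Ctx K Y T M Φ Ψ P) {l : ℕ} [hl : Fact l.Prime] (h : l ^ 2 ≤ tor X l) :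
    ¬ IsCyclic (lPart T X.comm l) := by
  classical
  intro hc
  have := Fintype.ofFinite (lPart T X.comm l)
  have h1 := IsCyclic.card_pow_eq_one_le (α := lPart T X.comm l) hl.out.pos
  let f : {t : Y // t ∈ T ∧ t ^ l = 1} → {x : lPart T X.comm l // x ∈ Finset.univ.filter fun a : lPart T X.comm l =>
      a ^ l = 1} := fun t => ⟨⟨t.1, t.2.1, 1, by rw [pow_one]; exact t.2.2⟩, by
        rw [Finset.mem_filter]
        exact ⟨Finset.mem_univ _, Subtype.ext t.2.2⟩⟩
  have hf : Function.Injective f := fun a b hab => Subtype.ext (congrArg (fun x => ((x.1 : lPart T X.comm l) : Y)) hab)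
  have h2 := Nat.card_le_card_of_injective f hf
  rw [Nat.card_eq_fintype_card (α := {x : lPart T X.comm l // _}), Fintype.card_coe] at h2
  have h3 : tor X l ≤ l := h2.trans h1
  have h4 := hl.out.one_lt
  nlinarith

/-- The output of the Sylow case. -/
structure Out (X : Ctx K Y T M Φ Ψ P) (L : Subgroup Y) (l : ℕ) [Fact l.Prime] (S : Sylow l Y) (Q : Sylow l L) : Prop where
  dat : Dat T M X.comm l S
  eq : (S : Subgroup Y) = lPart T X.comm l
  le : (S : Subgroup Y) ≤ L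
  sub : (Q : Subgroup L) = (S : Subgroup Y).subgroupOf L
  comm : ∀ x ∈ (Q : Subgroup L), ∀ y ∈ (Q : Subgroup L), x * y = y * x
  nc : ¬ IsCyclic (Q : Subgroup L)
  mem : ∀ g : L, (g : Y) ∈ M → g ∈ normalizer ((Q : Subgroup L) : Set L)
  mem' : ∀ g ∈ normalizer ((Q : Subgroup L) : Set L), (g : Y) ∈ M
  ti : ∀ g : L, g ∉ normalizer ((Q : Subgroup L) : Set L) → (Q : Subgroup L) ⊓ (MulAut.conj g • (Q : Subgroup L)) = ⊥
  tor_le : tor X l ≤ Nat.card (Q : Subgroup L)

theorem exists_out [Finite Y] (X : Ctx K Y T M Φ Ψ P) {L : Subgroup Y} (E : Env X L) {l : ℕ} [hl : Fact l.Prime]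
    (hd : l ∣ Fintype.card K - 1) (hq : ∀ m ∈ M, m ^ l ∈ T → m ∈ T) (h2 : l ^ 2 ≤ tor X l) :
    ∃ (S : Sylow l Y) (Q : Sylow l L), Out X L l S Q := by
  obtain ⟨S, D, hS⟩ := exists_dat' X hd hq
  have Sc := soc X E
  have hLn := E.normal
  have hnc := not_isCyclic X h2
  have hlL := D.dvd_card Sc hnc
  have hST : (S : Subgroup Y) ≤ T := by rw [hS]; exact lPart_le
  have hSL := D.le_socle Sc hlL hST
  obtain ⟨Q, hQ⟩ := Cfsg.Agent.Transfer.FrobeniusFusion.exists_sylow_subgroupOf S L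
  have hmemQ : ∀ x : L, x ∈ (Q : Subgroup L) ↔ (x : Y) ∈ lPart T X.comm l := by
    intro x
    rw [hQ, mem_subgroupOf, hS]
  have h3 : ∀ g : L, (g : Y) ∈ M → g ∈ normalizer ((Q : Subgroup L) : Set L) := by
    intro g hg
    rw [mem_normalizer_iff]
    intro x
    rw [hmemQ, hmemQ]
    constructor
    · intro hx
      exact conj_mem_lPart (D.conj g hg) hx
    · intro hx
      have := conj_mem_lPart (D.conj (g : Y)⁻¹ (M.inv_mem hg)) hx
      have h4 : (g : Y)⁻¹ * ((g * x * g⁻¹ : L) : Y) * (g : Y)⁻¹⁻¹ = x := by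
        push_cast
        group
      rwa [h4] at this
  have h3' : ∀ g : L, ∀ x ∈ (Q : Subgroup L), x ≠ 1 → g * x * g⁻¹ ∈ (Q : Subgroup L) → (g : Y) ∈ M := by
    intro g x hx hx1 hgx
    rw [hmemQ] at hx hgx
    exact D.sc x hx (fun h => hx1 (Subtype.ext h)) g (X.TM hgx.1)
  obtain ⟨t, ht, ht1⟩ := (lPart T X.comm l).bot_or_exists_ne_one.resolve_left D.ne
  refine ⟨S, Q, D, hS, hSL, hQ, ?_, ?_, h3, ?_, ?_, ?_⟩
  · intro x hx y hy
    rw [hmemQ] at hx hy
    exact Subtype.ext (X.comm _ hx.1 _ hy.1)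
  · intro hc
    apply hnc
    have e : (Q : Subgroup L) ≃* lPart T X.comm l := by
      rw [hQ, ← hS]
      exact subgroupOfEquivOfLe hSL
    exact isCyclic_of_surjective e e.surjective
  · intro g hg
    have htL : t ∈ L := hSL (by rw [hS]; exact ht)
    have htQ : (⟨t, htL⟩ : L) ∈ (Q : Subgroup L) := by rw [hmemQ]; exact ht
    exact h3' g _ htQ (fun h => ht1 (congrArg Subtype.val h)) ((mem_normalizer_iff.1 hg _).1 htQ)
  · intro g hg
    rw [eq_bot_iff]
    rintro x ⟨hx, hxg⟩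
    rw [mem_bot]
    by_contra hx1
    apply hg
    apply h3
    obtain ⟨y, hy, rfl⟩ := hxg
    refine h3' g y hy ?_ hx
    rintro rfl
    exact hx1 (by simp)
  · let f : {t : Y // t ∈ T ∧ t ^ l = 1} → (Q : Subgroup L) := fun t =>
      have h5 : t.1 ∈ lPart T X.comm l := ⟨t.2.1, 1, by rw [pow_one]; exact t.2.2⟩
      ⟨⟨t.1, hSL (by rw [hS]; exact h5)⟩, by rw [hmemQ]; exact h5⟩
    exact Nat.card_le_card_of_injective f fun a b hab => Subtype.ext (congrArg (fun x => ((x.1 : L) : Y)) hab)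

end Cfsg.Agent.H298.SY
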