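import Cfsg.Agent.H298.OT.SylPSL

/-!
# S2539, part 4.4 (END_l), the Sylow case (helper298)

The Sylow case from the two remaining root lemmas R7, R9 and the rows of S4749 with abelian Sylow subgroups.
-/

set_option autoImplicit false
set_option linter.unusedSectionVars false

namespace Cfsg.Agent.H298.SY

open Subgroup Cfsg.Agent.H712.OT Cfsg.Agent.H214.OT Cfsg.Agent.H792.OT
open scoped Pointwise

universe u v w

variable {K : Type u} [Field K] [Fintype K] {Y : Type v} [Group Y] {T M : Subgroup Y}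
  {Φ : Type w} {Ψ : Set Φ} {P : Φ → Φ → ℤ}

/-- the possible pairs `(k, l)` -/
def Case (X : Ctx K Y T M Φ Ψ P) (k l : ℕ) : Prop :=
  (k = 4 ∧ l = 5 ∧ Nat.card Ψ = 6) ∨ (k = 6 ∧ l = 7 ∧ Nat.card Ψ = 6) ∨
      (11 ≤ l ∧ l ^ 2 ≤ tor X l) ∨ (l = 3 ∧ A3 X) ∨
      (k = 4 ∧ l = 5 ∧ A3 X ∧ ∀ r : ℕ, r.Prime → 5 ≤ r → ∀ m ∈ M, m ^ r ∈ T → m ∈ T)

/-- **The Sylow case.** -/
theorem syl_of [Finite Y] (X : Ctx K Y T M Φ Ψ P) {L : Subgroup Y} (E : Env X L) {k : ℕ} (hk : 4 ≤ k)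
    (hK : Fintype.card K = 2 ^ k) {l : ℕ} (hl : l.Prime) (hl3 : 3 ≤ l) (hd : l ∣ Fintype.card K - 1)
    (hq : ∀ m ∈ M, m ^ l ∈ T → m ∈ T) (hcase : Case X k l)
    (r7 : A3 X → ∀ m : M, ∃ j : ℕ, 1 ≤ j ∧ j < 3 ^ 8 ∧ (m : Y) ^ j ∈ T)
    (r9 : Nat.card Ψ = 6 → ∀ m ∈ M, m ^ 6 ∈ T)
    (hti : ∀ [Fact l.Prime] (Q : Sylow l L), (∀ x ∈ (Q : Subgroup L), ∀ y ∈ (Q : Subgroup L), x * y = y * x) →
      (∀ g : L, g ∉ normalizer ((Q : Subgroup L) : Set L) → (Q : Subgroup L) ⊓ (MulAut.conj g • (Q : Subgroup L)) = ⊥) →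
      ¬ IsCyclic (Q : Subgroup L) →
      (∃ (F : Type) (_ : Field F) (_ : Fintype F) (n : ℕ), 2 ≤ n ∧ Fintype.card F = l ^ n ∧
        Nonempty (L ≃* Matrix.ProjectiveSpecialLinearGroup (Fin 2) F)) ∨
      (l = 3 ∧ Nat.card (Q : Subgroup L) = 9) ∨
      (l = 5 ∧ Nat.card (Q : Subgroup L) = 25 ∧ Nat.card L = 17971200))
    (htits : ∀ [Fact l.Prime] (S : Sylow l Y) (Q : Sylow l L), Out X L l S Q → k = 4 → l = 5 → Nat.card Ψ = 6 →
      Nat.card (Q : Subgroup L) = 25 → Nat.card L = 17971200 → False) : False := by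
  have := Fact.mk hl
  have hsq : l ^ 2 ≤ tor X l := by
    by_cases h3 : l = 3
    · have hA : A3 X := by
        rcases hcase with h | h | h | h | h
        · omega
        · omega
        · omega
        · exact h.2
        · omega
      have h1 := H544.OT.cube_le X hA hl hl3 hd
      have h2 : l ^ 2 ≤ l ^ 3 := Nat.pow_le_pow_right hl.pos (by norm_num)
      omega
    · exact sq_le X hl h3 hd
  obtain ⟨S, Q, O⟩ := exists_out X E hd hq hsq
  rcases hti Q O.comm O.ti O.nc with ⟨F, iF, iF', n, hn, hF, ⟨e⟩⟩ | ⟨h3, h9⟩ | ⟨h5, h25, hL⟩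
  · refine psl_false X E hk hK hl3 hd O hn (pslFacts (by omega) (by omega) hF e Q) ?_
    rcases six_or_A3 X with h | h
    · by_cases h3 : l = 3
      · right
        have hA : A3 X := by
          rcases hcase with h | h | h | h | h
          · omega
          · omega
          · omega
          · exact h.2
          · omega
        exact ⟨hA, r7 hA⟩
      · exact Or.inl ⟨h3, r9 h⟩
    · exact Or.inr ⟨h, r7 h⟩
  · have hA : A3 X := by
      rcases hcase with h | h | h | h | h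
      · omega
      · omega
      · omega
      · exact h.2
      · omega
    have h1 := (H544.OT.cube_le X hA hl hl3 hd).trans O.tor_le
    rw [h9, h3] at h1
    omega
  · rcases hcase with h | h | h | h | h
    · exact htits S Q O h.1 h5 h.2.2 h25 hL
    · omega
    · omega
    · omega
    · have h1 := (H544.OT.cube_le X h.2.2.1 hl hl3 hd).trans O.tor_le
      rw [h25, h5] at h1
      omega

end Cfsg.Agent.H298.SY
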