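import Cfsg.Agent.H298.OT.Syl

/-!
# S2539, part 4.4 (END_l), the Sylow case: `L ≅ PSL(2, l ^ n)` is impossible (helper298)
-/

set_option autoImplicit false
set_option linter.unusedSectionVars false

namespace Cfsg.Agent.H298.SY

open Subgroup Cfsg.Agent.H712.OT Cfsg.Agent.H214.OT Cfsg.Agent.H792.OT

universe u v w

variable {K : Type u} [Field K] [Fintype K] {Y : Type v} [Group Y] {T M : Subgroup Y}
  {Φ : Type w} {Ψ : Set Φ} {P : Φ → Φ → ℤ}

theorem psl_false [Finite Y] (X : Ctx K Y T M Φ Ψ P) {L : Subgroup Y} (E : Env X L) {k : ℕ}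
    (hk : 4 ≤ k) (hK : Fintype.card K = 2 ^ k) {l : ℕ} [hl : Fact l.Prime] (hl3 : 3 ≤ l)
    (hd : l ∣ Fintype.card K - 1) {S : Sylow l Y} {Q : Sylow l L} (O : Out X L l S Q) {n : ℕ} (hn : 2 ≤ n)
    (F : PSLFacts (Q : Subgroup L) l (l ^ n))
    (h6 : (l ≠ 3 ∧ ∀ m ∈ M, m ^ 6 ∈ T) ∨
      (A3 X ∧ ∀ m : M, ∃ j : ℕ, 1 ≤ j ∧ j < 3 ^ 8 ∧ (m : Y) ^ j ∈ T)) : False := by
  have hp := hl.out
  obtain ⟨c, hc, hcj⟩ := F.tor
  have hLn := E.normal
  have hmemQ : ∀ x : L, x ∈ (Q : Subgroup L) ↔ (x : Y) ∈ lPart T X.comm l := by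
    intro x
    rw [O.sub, mem_subgroupOf, O.eq]
  -- `c` is in `M`
  have hcN : c ∈ normalizer ((Q : Subgroup L) : Set L) := mem_normalizer_fintype hc
  have hcM : (c : Y) ∈ M := O.mem' c hcN
  -- powers of `c` in `T`
  have hcT : ∀ j : ℕ, (c : Y) ^ j ∈ T → (l ^ n - 1) / 2 ∣ j := by
    intro j hj
    apply hcj
    intro x hx
    rw [hmemQ] at hx
    exact Subtype.ext (by push_cast; exact X.comm _ hj _ hx.1)
  have hlow : l ^ 2 ≤ l ^ n := Nat.pow_le_pow_right hp.pos hn
  rcases h6 with ⟨h3, h6⟩ | ⟨hA, h7⟩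
  · -- `A₂`
    have h1 := Nat.le_of_dvd (by norm_num) (hcT 6 (h6 _ hcM))
    have h5 : 5 ≤ l := by
      have h4 : l ≠ 4 := by rintro rfl; exact absurd hp (by norm_num)
      omega
    have h25 : 25 ≤ l ^ 2 := by nlinarith
    omega
  · have hl9 : 9 ≤ l ^ 2 := by nlinarith
    by_cases hs : ∃ s : ℕ, s.Prime ∧ s ∣ Fintype.card K - 1 ∧ s ≠ l
    · obtain ⟨s, hs, hsd, hsl⟩ := hs
      have hs2 : s ≠ 2 := by
        rintro rfl
        have h2 : 2 ∣ Fintype.card K := by
          rw [hK]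
          exact dvd_pow_self 2 (by omega)
        have h3 : 1 < Fintype.card K := Fintype.one_lt_card
        omega
      have h5 : 5 ≤ s ∨ (s = 3 ∧ A3 X) := by
        by_cases h : s = 3
        · exact Or.inr ⟨h, hA⟩
        · left
          have := hs.two_le
          have h4 : s ≠ 4 := by rintro rfl; exact absurd hs (by norm_num)
          omega
      have hcT1 : (c : Y) ∈ T := by
        refine H544.OT.faithful X hs h5 hsd hcM fun t ht hts => ?_
        -- `u = c t c⁻¹ t⁻¹` lies in `T ∩ L`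
        have hu : (c : Y) * t * (c : Y)⁻¹ * t⁻¹ ∈ T := T.mul_mem (X.conj_mem _ hcM t ht) (T.inv_mem ht)
        have huL : (c : Y) * t * (c : Y)⁻¹ * t⁻¹ ∈ L := by
          have : (c : Y) * t * (c : Y)⁻¹ * t⁻¹ = c * (t * (c : Y)⁻¹ * t⁻¹) := by group
          rw [this]
          exact L.mul_mem c.2 (hLn.conj_mem _ (L.inv_mem c.2) t)
        have huQ : (⟨_, huL⟩ : L) ∈ (Q : Subgroup L) := by
          apply F.cent
          intro x hx
          rw [hmemQ] at hx
          exact Subtype.ext (X.comm _ hu _ hx.1)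
        have hul : ((c : Y) * t * (c : Y)⁻¹ * t⁻¹) ^ l = 1 := congrArg Subtype.val (F.exp _ huQ)
        have hus : ((c : Y) * t * (c : Y)⁻¹ * t⁻¹) ^ s = 1 := by
          have hcomm : Commute ((c : Y) * t * (c : Y)⁻¹) t⁻¹ := X.comm _ (X.conj_mem _ hcM t ht) _ (T.inv_mem ht)
          rw [hcomm.mul_pow, conj_pow, inv_pow, hts, mul_one, mul_inv_cancel, inv_one, one_mul]
        have h1 := orderOf_dvd_of_pow_eq_one hul
        have h2 := orderOf_dvd_of_pow_eq_one hus
        have h3 : orderOf ((c : Y) * t * (c : Y)⁻¹ * t⁻¹) = 1 := by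
          apply Nat.eq_one_of_dvd_coprimes ((Nat.coprime_primes hp hs).2 (Ne.symm hsl)) h1 h2
        rw [orderOf_eq_one_iff, mul_inv_eq_one, mul_inv_eq_iff_eq_mul] at h3
        exact h3
      have h1 := Nat.le_of_dvd one_pos (hcT 1 (by rw [pow_one]; exact hcT1))
      omega
    · -- `q - 1` is a power of `l`, hence equal to `l`
      push Not at hs
      obtain ⟨a, ha, b, hb, hab⟩ := X.rank
      obtain ⟨z, hz⟩ := H544.OT.exists_unit (K := K) (Fintype.card K - 1) dvd_rfl
      have h1 : (Fintype.card K - 1) = l ^ (Fintype.card K - 1).primeFactorsList.length :=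
        Nat.eq_prime_pow_of_unique_prime_dvd (by have : 1 < Fintype.card K := Fintype.one_lt_card; omega)
          (fun {d} hd1 hd2 => hs d hd1 hd2)
      have hT : X.h a z ∈ lPart T X.comm l := by
        refine ⟨X.h_mem a z, (Fintype.card K - 1).primeFactorsList.length, ?_⟩
        rw [← h1, ← map_pow, ← hz, pow_orderOf_eq_one, map_one]
      have hL : X.h a z ∈ L := O.le (by rw [O.eq]; exact hT)
      have h2 : X.h a z ^ l = 1 := by
        have h3 : (⟨_, hL⟩ : L) ∈ (Q : Subgroup L) := by rw [hmemQ]; exact hT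
        exact congrArg Subtype.val (F.exp _ h3)
      have h3 : z ^ l = 1 := by
        have h4 := X.χ_h a ha b hb (z ^ l)
        rw [map_pow, h2, H544.OT.chi_one X hb, X.symm, hab, zpow_neg_one, eq_comm, inv_eq_one] at h4
        exact h4
      have h4 : Fintype.card K - 1 ∣ l := by
        rw [← hz]
        exact orderOf_dvd_of_pow_eq_one h3
      have h5 : Fintype.card K - 1 = l := Nat.dvd_antisymm h4 hd
      obtain ⟨j, hj1, hj2, hj⟩ := h7 ⟨c, hcM⟩
      have h6 := Nat.le_of_dvd (by omega) (hcT j hj)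
      have h7 : l ^ 3 ≤ l ^ n := by
        rw [← F.card]
        exact (H544.OT.cube_le X hA hp hl3 hd).trans O.tor_le
      have h8 : 31 ≤ l := by
        have h9 : k ≠ 4 := by
          rintro rfl
          rw [hK] at h5
          rw [← h5] at hp
          exact absurd hp (by norm_num)
        have h10 : 5 ≤ k := by omega
        have h11 : 2 ^ 5 ≤ 2 ^ k := Nat.pow_le_pow_right (by norm_num) h10
        omega
      have h9 : 31 ^ 3 ≤ l ^ 3 := Nat.pow_le_pow_left h8 3
      norm_num at h9 hj2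
      omega

end Cfsg.Agent.H298.SY
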